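import Groth.Agent.FEtSh4.FinLCRep
import Groth.Agent.FEtSh4.RepLC
import Groth.Agent.GalCoh84.Cohom
import Mathlib.CategoryTheory.Sites.ConstantSheaf

/-!
The sheaf of lifts of a section along an epimorphism, a torsor under the kernel.
-/

set_option autoImplicit false
set_option backward.isDefEq.respectTransparency.types false
set_option linter.style.haveILetI false
universe u

open CategoryTheory CategoryTheory.Limits AlgebraicGeometry Opposite CategoryTheory.Abelian
open Groth.Agent.Unr55.EtSh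

namespace Groth.Agent.Tors51

variable {X : Scheme.{u}}

/-- Restriction of a trivialisation. -/
noncomputable def trivRestrict {F : EtDesc.Sh X} {U V : X.Etale} {A : Type (u + 1)} (ψ : FEtSh4.Triv F U A) (b : V ⟶ U) :
    FEtSh4.Triv F V A :=
  (fullyFaithfulSheafToPresheaf _ _).preimageIso <| NatIso.ofComponents
    (fun W => ψ.sec (W.unop.hom ≫ b))
    (fun {W W'} g => by
      refine ConcreteCategory.hom_ext _ _ fun s => LocallyConstant.ext fun v => ?_
      exact ψ.sec_natural_apply (W.unop.hom ≫ b) g.unop.left (W'.unop.hom ≫ b)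
        (by rw [← Category.assoc, Over.w g.unop]) s v)

/-- A sheaf of abelian groups constant on `U` is constant there as a sheaf of sets. -/
noncomputable def trivOfConst {F : EtCoh.Ab X} {U : X.Etale} {M : AddCommGrpCat.{u + 1}}
    (ψ : EtCoh.restr F U ≅ (constantSheaf (X.smallEtaleTopology.over U) AddCommGrpCat.{u + 1}).obj M) :
    FEtSh4.Triv ((sheafCompose X.smallEtaleTopology (forget AddCommGrpCat.{u + 1})).obj F) U M :=
  FEtSh4.Triv.ofConst <|
    (show ((sheafCompose X.smallEtaleTopology (forget AddCommGrpCat.{u + 1})).obj F).over U ≅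
        (sheafCompose (X.smallEtaleTopology.over U) (forget AddCommGrpCat.{u + 1})).obj (EtCoh.restr F U) from
      Iso.refl _) ≪≫
    (sheafCompose (X.smallEtaleTopology.over U) (forget AddCommGrpCat.{u + 1})).mapIso ψ ≪≫
    ((constantCommuteCompose (X.smallEtaleTopology.over U) (forget AddCommGrpCat.{u + 1})).app M).symm.symm ≪≫
    (FEtSh4.overSheafifyIso U ((Functor.const X.Etaleᵒᵖ).obj (M : Type (u + 1)))).symm

variable {S : ShortComplex (EtCoh.Ab X)} (hS : S.ShortExact) (s : EtCoh.sect S.X₃ (EtCoh.top X))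

/-- The section `s` over `W`. -/
noncomputable def resTop (W : X.Etale) : EtCoh.sect S.X₃ W :=
  S.X₃.obj.map ((EtCore.topIsTerminal X).from W).op s

theorem map_resTop {V W : X.Etale} (a : V ⟶ W) : S.X₃.obj.map a.op (resTop s W) = resTop s V := by
  rw [resTop, resTop, ← ConcreteCategory.comp_apply, ← Functor.map_comp, ← op_comp,
    (EtCore.topIsTerminal X).hom_ext (a ≫ (EtCore.topIsTerminal X).from W) ((EtCore.topIsTerminal X).from V)]

/-- The presheaf of lifts of `s`. -/
noncomputable def liftsPre : X.Etaleᵒᵖ ⥤ Type (u + 1) where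
  obj W := {t : EtCoh.sect S.X₂ W.unop // S.g.hom.app W t = resTop s W.unop}
  map {W W'} a := ↾fun t => ⟨S.X₂.obj.map a t.1, by
    rw [NatTrans.naturality_apply, t.2]
    exact map_resTop s a.unop⟩
  map_id W := ConcreteCategory.hom_ext _ _ fun t => Subtype.ext
    ((ConcreteCategory.congr_hom (S.X₂.obj.map_id W) t.1))
  map_comp a b := ConcreteCategory.hom_ext _ _ fun t => Subtype.ext
    ((ConcreteCategory.congr_hom (S.X₂.obj.map_comp a b) t.1))

theorem isSheaf_liftsPre : Presheaf.IsSheaf X.smallEtaleTopology (liftsPre s) := by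
  have h2 := (isSheaf_iff_isSheaf_of_type _ _).1
    ((sheafCompose X.smallEtaleTopology (forget AddCommGrpCat.{u + 1})).obj S.X₂).property
  have h3 := (isSheaf_iff_isSheaf_of_type _ _).1
    ((sheafCompose X.smallEtaleTopology (forget AddCommGrpCat.{u + 1})).obj S.X₃).property
  rw [isSheaf_iff_isSheaf_of_type]
  intro W R hR x hx
  let y : Presieve.FamilyOfElements (S.X₂.obj ⋙ forget AddCommGrpCat.{u + 1}) (R : Presieve W) :=
    fun V a ha => (x a ha).1
  have hy : y.Compatible := fun Y₁ Y₂ Z g₁ g₂ f₁ f₂ h₁ h₂ w =>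
    congrArg Subtype.val (hx g₁ g₂ h₁ h₂ w)
  obtain ⟨t, ht, hu⟩ := h2 R hR y hy
  have htg : S.g.hom.app (op W) t = resTop s W := by
    refine (h3 R hR).isSeparatedFor.ext fun V a ha => ?_
    show S.X₃.obj.map a.op (S.g.hom.app (op W) t) = S.X₃.obj.map a.op (resTop s W)
    rw [← NatTrans.naturality_apply, map_resTop]
    exact (congrArg (S.g.hom.app (op V)) (ht a ha)).trans (x a ha).2
  refine ⟨⟨t, htg⟩, fun V a ha => Subtype.ext (ht a ha), fun t' ht' => Subtype.ext ?_⟩
  exact hu t'.1 fun V a ha => congrArg Subtype.val (ht' a ha)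

/-- The sheaf of lifts of `s`. -/
noncomputable def lifts : EtDesc.Sh X := ⟨liftsPre s, isSheaf_liftsPre s⟩

/-- Translation by a lift. -/
noncomputable def translate {V : X.Etale} (t₀ : (liftsPre s).obj (op V)) :
    ((sheafCompose X.smallEtaleTopology (forget AddCommGrpCat.{u + 1})).obj S.X₁).over V ⟶ (lifts s).over V :=
  ⟨{ app := fun W => ↾fun x => ⟨S.f.hom.app (op W.unop.left) x + S.X₂.obj.map W.unop.hom.op t₀.1, by
        have e : S.g.hom.app (op W.unop.left) (S.f.hom.app (op W.unop.left) x) = 0 :=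
          ConcreteCategory.congr_hom (congrArg (fun z : S.X₁ ⟶ S.X₃ => z.hom.app (op W.unop.left)) S.zero) x
        refine (map_add (S.g.hom.app (op W.unop.left)).hom _ _).trans ?_
        rw [e, zero_add, NatTrans.naturality_apply, t₀.2]
        exact map_resTop s _⟩
     naturality := fun W W' a => ConcreteCategory.hom_ext _ _ fun x => Subtype.ext (by
        show S.f.hom.app (op W'.unop.left) (S.X₁.obj.map a.unop.left.op x) + S.X₂.obj.map W'.unop.hom.op t₀.1 =
          S.X₂.obj.map a.unop.left.op (S.f.hom.app (op W.unop.left) x + S.X₂.obj.map W.unop.hom.op t₀.1)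
        rw [map_add, NatTrans.naturality_apply, ← ConcreteCategory.comp_apply (S.X₂.obj.map W.unop.hom.op),
          ← Functor.map_comp, ← op_comp, Over.w a.unop]) }⟩

include hS in
theorem sect_exact (W : X.Etale) :
    Function.Injective (S.f.hom.app (op W)) ∧
      ∀ t, S.g.hom.app (op W) t = 0 → ∃ x, S.f.hom.app (op W) x = t := by
  let Φ : EtCoh.Ab X ⥤ AddCommGrpCat.{u + 1} :=
    sheafToPresheaf X.smallEtaleTopology AddCommGrpCat.{u + 1} ⋙ (evaluation _ _).obj (op W)
  have : PreservesLimitsOfSize.{0, 0} (sheafToPresheaf X.smallEtaleTopology AddCommGrpCat.{u + 1}) :=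
    (sheafificationAdjunction X.smallEtaleTopology AddCommGrpCat.{u + 1}).rightAdjoint_preservesLimits
  have : PreservesFiniteLimits (sheafToPresheaf X.smallEtaleTopology AddCommGrpCat.{u + 1}) :=
    PreservesLimitsOfSize.preservesFiniteLimits _
  have : PreservesFiniteLimits Φ := comp_preservesFiniteLimits _ _
  have : Φ.PreservesZeroMorphisms := ⟨fun A B => rfl⟩
  have := hS.mono_f
  exact ⟨(AddCommGrpCat.mono_iff_injective _).1 (inferInstance : Mono (Φ.map S.f)),
    (ShortComplex.ab_exact_iff _).1 (hS.exact.map_of_mono_of_preservesKernel Φ inferInstance inferInstance) ⟩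

include hS in
theorem isIso_translate {V : X.Etale} (t₀ : (liftsPre s).obj (op V)) : IsIso (translate s t₀) := by
  have : ∀ W, IsIso ((translate s t₀).hom.app W) := fun W => by
    obtain ⟨hinj, hex⟩ := sect_exact hS W.unop.left
    refine (isIso_iff_bijective _).2 ⟨fun x y h => hinj (add_right_cancel (congrArg Subtype.val h)), fun t => ?_⟩
    let a : EtCoh.sect S.X₂ W.unop.left := t.1
    let b : EtCoh.sect S.X₂ W.unop.left := S.X₂.obj.map W.unop.hom.op t₀.1
    have h0 : S.g.hom.app (op W.unop.left) (a - b) = 0 := by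
      have ha : S.g.hom.app (op W.unop.left) a = resTop s W.unop.left := t.2
      have hb : S.g.hom.app (op W.unop.left) b = resTop s W.unop.left := by
        show S.g.hom.app _ (S.X₂.obj.map W.unop.hom.op t₀.1) = _
        rw [NatTrans.naturality_apply, t₀.2]
        exact map_resTop s _
      refine (map_sub (S.g.hom.app (op W.unop.left)).hom a b).trans ?_
      rw [ha, hb, sub_self]
    obtain ⟨x, hx⟩ := hex _ h0
    refine ⟨x, Subtype.ext ?_⟩
    show S.f.hom.app (op W.unop.left) x + b = a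
    rw [hx, sub_add_cancel]
  have : IsIso ((sheafToPresheaf _ _).map (translate s t₀)) := @NatIso.isIso_of_isIso_app _ _ _ _ _ _ _ this
  exact isIso_of_reflects_iso _ (sheafToPresheaf _ _)

include hS in
theorem exists_local_lift (x : X) : ∃ (V : X.Etale) (v : V.left), V.hom v = x ∧ Nonempty ((liftsPre s).obj (op V)) := by
  have : Epi S.g := hS.epi_g
  have h := (Sheaf.isLocallySurjective_iff_epi' _ S.g).2 inferInstance
  obtain ⟨V, a, v, ha, -, hv⟩ := (EtCore45.mem_et _).1 (Presheaf.imageSieve_mem X.smallEtaleTopology S.g.hom s) x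
  obtain ⟨t, ht⟩ := ha
  refine ⟨V, v, ?_, ⟨⟨t, ht.trans ?_⟩⟩⟩
  · rw [← MorphismProperty.Over.w a]
    exact hv
  · rw [(EtCore.topIsTerminal X).hom_ext a ((EtCore.topIsTerminal X).from V)]
    rfl

include hS in
theorem isFinLocConstSet_lifts (hF : EtCoh.IsFiniteLocallyConstant S.X₁) : CohProp.IsFinLocConstSet (lifts s) := by
  obtain ⟨ι, U, hU, hc⟩ := hF
  choose M hM hMf hψ using hc
  have h : ∀ x : X, ∃ (V : X.Etale) (v : V.left) (i : ι), V.hom v = x ∧ Nonempty (V ⟶ U i) ∧
      Nonempty ((liftsPre s).obj (op V)) := fun x => by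
    obtain ⟨V, v, hv, ⟨t⟩⟩ := exists_local_lift hS s x
    obtain ⟨i, y, hy⟩ := hU x
    obtain ⟨p, hp1, hp2⟩ := Scheme.Pullback.exists_preimage_pullback (f := V.hom) (g := (U i).hom) v y (hv.trans hy.symm)
    have : Etale (pullback.fst V.hom (U i).hom) := MorphismProperty.pullback_fst _ _ inferInstance
    let P := EtCore45.objOf V (pullback.fst V.hom (U i).hom)
    let a : P ⟶ V := EtCore45.objOfHom V _
    refine ⟨P, p, i, ?_, ⟨MorphismProperty.Over.homMk (pullback.snd V.hom (U i).hom) pullback.condition.symm⟩,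
      ⟨(liftsPre s).map a.op t⟩⟩
    show V.hom (pullback.fst V.hom (U i).hom p) = x
    rw [hp1, hv]
  choose V v i hv hb hl using h
  refine ⟨X, V, fun x => ⟨x, v x, hv x⟩, fun x => ⟨(AddCommGrpCat.of (ULift.{u + 1} (M (i x))) : Type (u + 1)),
    inferInstanceAs (Finite (ULift.{u + 1} (M (i x)))), ⟨?_⟩⟩⟩
  have := isIso_translate hS s (hl x).some
  exact (asIso (translate s (hl x).some)).symm ≪≫ trivRestrict (trivOfConst (hψ (i x)).some) (hb x).some ≪≫
    ((X.smallEtaleTopology.overPullback (Type (u + 1)) (V x)).mapIso (FEtSh4.constIso _)).symm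

include hS in
/-- Degree one classes from a finite locally constant kernel die on a finite etale cover. -/
theorem exists_cover_delta_eq_zero (hF : EtCoh.IsFiniteLocallyConstant S.X₁) (φ : EtCoh.const X ℤ ⟶ S.X₃) :
    ∃ (Y : Scheme.{u}) (g : Y ⟶ X), IsFinite g ∧ Etale g ∧ Surjective g ∧
      ∀ [PreservesFiniteLimits (EtCoh.pull g)],
        EtCore.Hpull g S.X₁ 1 ((Ext.mk₀ φ).comp hS.extClass (zero_add 1)) = 0 := by
  let s := EtDesc45.secZ (EtCore.topIsTerminal X) S.X₃ φ
  obtain ⟨W, hW, ⟨e⟩⟩ := FEtSh4.exists_repSh (lifts s) (isFinLocConstSet_lifts hS s hF)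
  let P : X.Etaleᵒᵖ ⥤ Type (u + 1) := yoneda.obj W ⋙ uliftFunctor.{u + 1, u}
  have hsurj : Surjective W.hom := ⟨fun x => by
    obtain ⟨V, v, hv, ⟨t⟩⟩ := exists_local_lift hS s x
    let τ : (EtDesc.repSh W).obj.obj (op V) := e.hom.hom.app (op V) t
    obtain ⟨V', a, v', ha, -, hv'⟩ := (EtCore45.mem_et _).1
      (Presheaf.imageSieve_mem X.smallEtaleTopology (toSheafify X.smallEtaleTopology P) τ) v
    obtain ⟨c, -⟩ := ha
    refine ⟨c.down.left v', ?_⟩
    rw [← Scheme.Hom.comp_apply, MorphismProperty.Over.w c.down, ← MorphismProperty.Over.w a, Scheme.Hom.comp_apply,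
      hv']
    exact hv⟩
  refine ⟨W.left, W.hom, hW, inferInstance, hsurj, ?_⟩
  intro _
  let τ : (EtDesc.repSh W).obj.obj (op W) := (toSheafify X.smallEtaleTopology P).app (op W) ⟨𝟙 W⟩
  let t := e.inv.hom.app (op W) τ
  exact (GalCoh84.Hpull_delta_eq_zero_iff (hW := ‹_›) W hS φ).2 ⟨t.1, t.2⟩

/-- Degree one classes of finite locally constant sheaves die on a finite etale cover. -/
theorem exists_cover_H1_eq_zero (F : EtCoh.Ab X) (hF : EtCoh.IsFiniteLocallyConstant F) (ζ : EtCoh.H X F 1) :
    ∃ (Y : Scheme.{u}) (g : Y ⟶ X), IsFinite g ∧ Etale g ∧ Surjective g ∧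
      ∀ [PreservesFiniteLimits (EtCoh.pull g)], EtCore.Hpull g F 1 ζ = 0 := by
  let S : ShortComplex (EtCoh.Ab X) := ShortComplex.mk (Injective.ι F) (cokernel.π _) (cokernel.condition _)
  have hS : S.ShortExact :=
    ShortComplex.ShortExact.mk' (ShortComplex.exact_cokernel _) inferInstance inferInstance
  obtain ⟨a, ha⟩ := Ext.covariant_sequence_exact₁ _ hS ζ (Ext.eq_zero_of_injective (I := Injective.under F) _) (n₀ := 0) rfl
  obtain ⟨φ, rfl⟩ := (Ext.mk₀_bijective _ _).2 a
  rw [← ha]
  exact exists_cover_delta_eq_zero hS hF φ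

end Groth.Agent.Tors51
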