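import Groth.Agent.Comp51.FinitePush
import Groth.Agent.FBase64.TopoFinite
import Groth.Agent.LocConst45.AbPull
import Groth.Agent.EtCore45.FlagMain
import Groth.Agent.S0106

/-!
The property of being a `K(π,1)` along finite etale surjections.
-/

set_option autoImplicit false
set_option backward.isDefEq.respectTransparency.types false
set_option linter.style.haveILetI false
universe u

open CategoryTheory CategoryTheory.Limits AlgebraicGeometry Opposite CategoryTheory.Abelian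

namespace Groth.Agent.Tors51

variable {X Y : Scheme.{u}}

/-- A finite etale scheme over a scheme with finitely many components has finitely many components. -/
theorem finite_connectedComponents_of_finiteEtale (f : X ⟶ Y) [IsFinite f] [Etale f]
    [Finite (_root_.ConnectedComponents ↥Y)] : Finite (_root_.ConnectedComponents ↥X) := by
  choose y hy using fun c : _root_.ConnectedComponents ↥Y => ConnectedComponents.surjective_coe c
  have hfin : ∀ c, Finite (f ⁻¹' {y c} : Set X) := fun c => (f.finite_preimage_singleton (y c)).to_subtype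
  refine (FBase64.connectedComponents_finite_of_pieces (A := X)
    (fun s : Σ c, (f ⁻¹' {y c} : Set X) => ({s.2.1} : Set X)) fun U hU ⟨a, ha⟩ => ?_).1
  let c : _root_.ConnectedComponents ↥Y := ConnectedComponents.mk (f a)
  have himg : IsClopen (f '' U) := ⟨f.isClosedMap _ hU.1, f.isOpenMap _ hU.2⟩
  obtain ⟨b, hb, hbc⟩ : y c ∈ f '' U :=
    himg.connectedComponent_subset ⟨a, ha, rfl⟩ (ConnectedComponents.coe_eq_coe'.1 (hy c))
  exact ⟨⟨c, ⟨b, hbc⟩⟩, ⟨b, rfl⟩, Set.singleton_subset_iff.2 hb⟩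

/-- Classes killed after a finite etale surjection. -/
def Killed (F : EtCoh.Ab X) (q : ℕ) (ζ : EtCoh.H X F q) : Prop :=
  ∃ (X' : Scheme.{u}) (g : X' ⟶ X), IsFinite g ∧ Etale g ∧ Surjective g ∧
    ∀ [PreservesFiniteLimits (EtCoh.pull g)], EtCore.Hpull g F q ζ = 0

theorem killed_of_pull (f : X ⟶ Y) [IsFinite f] [Etale f] [Surjective f] [PreservesFiniteLimits (EtCoh.pull f)]
    {F : EtCoh.Ab Y} {q : ℕ} {ζ : EtCoh.H Y F q} (h : Killed _ q (EtCore.Hpull f F q ζ)) : Killed F q ζ := by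
  obtain ⟨X', g, _, _, _, hg⟩ := h
  refine ⟨X', g ≫ f, inferInstance, inferInstance, inferInstance, ?_⟩
  intro _
  have := Unr55.EtSh.preservesFiniteLimits_pull g
  obtain ⟨Φ, hΦ, e⟩ := Henz21.EtAcycComp.exists_Hpull_comp g f F q
  obtain ⟨θ, hθ⟩ := Comp51.Hpull_Hpull g f
  have h0 : ((Ext.mk₀ θ.hom).comp (EtCore.Hpull (g ≫ f) F q ζ) (zero_add q)).comp
      (Ext.mk₀ ((EtCore.pullComp g f).hom.app F)) (add_zero q) = 0 := (hθ F q ζ).symm.trans hg
  have hb := Henz21.EtAcycComp.bijective_sandwich θ ((EtCore.pullComp g f).app F) q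
  refine hb.1 (h0.trans ?_)
  simp

theorem comp_iso_eq_zero {Q : Scheme.{u}} {B C : EtCoh.Ab Q} {q : ℕ} (φ : B ⟶ C) [IsIso φ] (x : EtCoh.H Q B q)
    (h : x.comp (Ext.mk₀ φ) (add_zero q) = 0) : x = 0 := by
  have h1 := congrArg (fun z => Ext.comp z (Ext.mk₀ (inv φ)) (add_zero q)) h
  simpa [Ext.comp_assoc_of_third_deg_zero] using h1

theorem Hpull_square_eq_zero {Q Y' : Scheme.{u}} (f : X ⟶ Y) (g : Y' ⟶ Y) (g' : Q ⟶ X) (f' : Q ⟶ Y')
    (w : g' ≫ f = f' ≫ g) [PreservesFiniteLimits (EtCoh.pull f)] [PreservesFiniteLimits (EtCoh.pull g)]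
    [PreservesFiniteLimits (EtCoh.pull g')] [PreservesFiniteLimits (EtCoh.pull f')]
    [PreservesFiniteLimits (EtCoh.pull (g' ≫ f))] [PreservesFiniteLimits (EtCoh.pull (f' ≫ g))]
    (G : EtCoh.Ab Y) (q : ℕ) (ξ : EtCoh.H Y G q) (hg : EtCore.Hpull g G q ξ = 0) :
    EtCore.Hpull g' _ q (EtCore.Hpull f G q ξ) = 0 := by
  obtain ⟨θ1, h1⟩ := Comp51.Hpull_Hpull g' f
  obtain ⟨θ2, h2⟩ := Comp51.Hpull_Hpull f' g
  obtain ⟨θc, hc⟩ := Comp51.Hpull_pullCongr w
  have e2 : EtCore.Hpull (f' ≫ g) G q ξ = 0 := by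
    have h0 : ((Ext.mk₀ θ2.hom).comp (EtCore.Hpull (f' ≫ g) G q ξ) (zero_add q)).comp
        (Ext.mk₀ ((EtCore.pullComp f' g).hom.app G)) (add_zero q) = 0 :=
      (h2 G q ξ).symm.trans ((congrArg (EtCore.Hpull f' _ q) hg).trans (map_zero _))
    refine (Henz21.EtAcycComp.bijective_sandwich θ2 ((EtCore.pullComp f' g).app G) q).1 (h0.trans ?_)
    exact ((congrArg (fun z => Ext.comp z _ _) (Ext.comp_zero _ _ _ _ _)).trans (Ext.zero_comp _ _ _ _ _)).symm
  have e1 : EtCore.Hpull (g' ≫ f) G q ξ = 0 := by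
    have h3 : (EtCore.Hpull (g' ≫ f) G q ξ).comp (Ext.mk₀ ((EtCore.pullCongr w).hom.app G)) (add_zero q) = 0 :=
      (hc G q ξ).trans ((congrArg (fun z => (Ext.mk₀ θc.hom).comp z (zero_add q)) e2).trans (Ext.comp_zero _ _ _ _ _))
    exact comp_iso_eq_zero ((EtCore.pullCongr w).hom.app G) (EtCore.Hpull (g' ≫ f) G q ξ) h3
  rw [h1, e1, Ext.comp_zero, Ext.zero_comp]

theorem killed_of_push (f : X ⟶ Y) [IsFinite f] [Etale f] [PreservesFiniteLimits (EtCoh.pull f)]
    (F : EtCoh.Ab X) {q : ℕ} {ξ : EtCoh.H Y ((EtCoh.push f).obj F) q} (h : Killed _ q ξ) :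
    Killed F q (EtCore45.adjTransfer (EtCoh.pullPushAdj f) (EtCore.pullConst f ℤ).inv F q ξ) := by
  obtain ⟨Y', g, _, _, _, hg⟩ := h
  refine ⟨pullback f g, pullback.fst f g, inferInstance, inferInstance, inferInstance, ?_⟩
  intro _
  have := Unr55.EtSh.preservesFiniteLimits_pull g
  have := Unr55.EtSh.preservesFiniteLimits_pull (pullback.snd f g)
  have := Unr55.EtSh.preservesFiniteLimits_pull (pullback.snd f g ≫ g)
  have := Unr55.EtSh.preservesFiniteLimits_pull (pullback.fst f g ≫ f)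
  have h0 := Hpull_square_eq_zero f g (pullback.fst f g) (pullback.snd f g) pullback.condition
    ((EtCoh.push f).obj F) q ξ hg
  have hT : EtCore45.adjTransfer (EtCoh.pullPushAdj f) (EtCore.pullConst f ℤ).inv F q ξ =
      (EtCore.Hpull f ((EtCoh.push f).obj F) q ξ).comp
        (Ext.mk₀ ((EtCoh.pullPushAdj f).counit.app F)) (add_zero q) := rfl
  refine (congrArg (EtCore.Hpull (pullback.fst f g) F q) hT).trans ?_
  refine (GalCoh84.Hpull_naturality _ _ q _).trans ?_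
  exact (congrArg (fun z => Ext.comp z _ (add_zero q)) h0).trans (Ext.zero_comp _ _ _ _ _)

/-- Descent and ascent of the `K(π,1)` property along a finite etale surjection. -/
theorem kpi_iff (P : Set ℕ) (f : X ⟶ Y) [IsFinite f] [Etale f] [Surjective f] :
    (∀ (F : EtCoh.Ab Y), EtCoh.IsFiniteLocallyConstant F →
        (∃ n : ℕ, 0 < n ∧ (∀ p : ℕ, p.Prime → p ∣ n → p ∈ P) ∧ EtCoh.KilledBy n F) →
        ∀ q : ℕ, 0 < q → ∀ ζ : EtCoh.H Y F q, Killed F q ζ) ↔
     (∀ (F : EtCoh.Ab X), EtCoh.IsFiniteLocallyConstant F →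
        (∃ n : ℕ, 0 < n ∧ (∀ p : ℕ, p.Prime → p ∣ n → p ∈ P) ∧ EtCoh.KilledBy n F) →
        ∀ q : ℕ, 0 < q → ∀ ζ : EtCoh.H X F q, Killed F q ζ) := by
  have := Unr55.EtSh.preservesFiniteLimits_pull f
  constructor
  · intro hY F hF ⟨n, hn, hP, hk⟩ q hq ζ
    obtain ⟨ξ, rfl⟩ := (EtCore45.adjTransfer_bijective (EtCoh.pullPushAdj f) (EtCore.pullConst f ℤ).inv q F
      fun p hp => S3054.result f _ p hp).2 ζ
    exact killed_of_push f F (hY _ (S0106.result f F hF) ⟨n, hn, hP, fun U s => hk _ s⟩ q hq ξ)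
  · intro hX F hF ⟨n, hn, hP, hk⟩ q hq ζ
    exact killed_of_pull f (hX _ (LocConst45.isFiniteLocallyConstant_pull f hF)
      ⟨n, hn, hP, EtCore45.killed_pull n f hk⟩ q hq _)

end Groth.Agent.Tors51
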