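import Groth.Agent.Tors51.Lifts
import Groth.Agent.CdP50.AS
import Groth.Agent.EtCore45.FlagMain
import Groth.Agent.LocConst45.AbMain
import Groth.Agent.EtTor93.Hpull
import Groth.Agent.Cons51.SectFinEt
import Groth.Agent.Depth22.TorsTools
import Groth.Agent.S0007

/-!
Finite etale covers of an affine scheme of characteristic `p` killing higher `p`-torsion cohomology.
-/

set_option autoImplicit false
set_option backward.isDefEq.respectTransparency.types false
set_option linter.style.haveILetI false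
universe u

open CategoryTheory CategoryTheory.Limits AlgebraicGeometry Opposite CategoryTheory.Abelian
open Groth.Agent.Unr55

namespace Groth.Agent.Tors51

variable {X : Scheme.{u}}

/-- Some finite etale cover kills the cohomology in degrees at least two on all affine schemes over it. -/
def KillsHigh (F : EtCoh.Ab X) : Prop :=
  ∃ (T : Scheme.{u}) (g : T ⟶ X), IsFinite g ∧ Etale g ∧ Surjective g ∧
    ∀ (W : Scheme.{u}) [IsAffine W] (w : W ⟶ T) (q : ℕ), 2 ≤ q →
      Subsingleton (EtCoh.H W ((EtCoh.pull (w ≫ g)).obj F) q)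

theorem subsingleton_congr {W : Scheme.{u}} {a b : W ⟶ X} (e : a = b) (F : EtCoh.Ab X) {q : ℕ}
    (h : Subsingleton (EtCoh.H W ((EtCoh.pull a).obj F) q)) : Subsingleton (EtCoh.H W ((EtCoh.pull b).obj F) q) := by
  subst e; exact h

theorem natCast_eq_zero_of_hom {W : Scheme.{u}} (w : W ⟶ X) {p : ℕ} (hp : (p : Γ(X, ⊤)) = 0) :
    (p : Γ(W, ⊤)) = 0 := by
  rw [← map_natCast w.appTop.hom, hp, map_zero]

theorem subsingleton_H_const_affine {p : ℕ} [Fact p.Prime] {W : Scheme.{u}} [IsAffine W]
    (hp : (p : Γ(W, ⊤)) = 0) {q : ℕ} (hq : 2 ≤ q) : Subsingleton (EtCoh.H W (EtCoh.const W (ZMod p)) q) := by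
  obtain ⟨q, rfl⟩ : ∃ m, q = m + 1 := ⟨q - 1, by omega⟩
  have : Coh.IsQCoh (Coh.structureModule W) := Crv77.isCoh_structureModule.1
  exact CdP50.subsingleton_H_const hp (S0007.result W _ q (by omega)) (S0007.result W _ (q + 1) (by omega))

theorem killsHigh_of_killedBy_prime [ConnectedSpace X] {p : ℕ} [Fact p.Prime] (hp : (p : Γ(X, ⊤)) = 0)
    {F : EtCoh.Ab X} (hF : EtCoh.IsFiniteLocallyConstant F) (hk : EtCoh.KilledBy p F) : KillsHigh F := by
  obtain ⟨T, g, hg, hget, d, hd, hcard, n, G, φ, h0, ⟨e⟩, hφ⟩ := EtCore45.exists_filtration p X F hF hk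
  have hd0 : d ≠ 0 := fun h => (Fact.out : p.Prime).one_lt.ne' ((Nat.coprime_zero_right p).1 (h ▸ hd))
  have hsurj : Surjective g := ⟨fun x => by
    let Ω := AlgebraicClosure (X.residueField x)
    let η : Spec (CommRingCat.of Ω) ⟶ X :=
      Spec.map (CommRingCat.ofHom (algebraMap (X.residueField x) Ω)) ≫ X.fromSpecResidueField x
    have : Nonempty {t : Spec (CommRingCat.of Ω) ⟶ T // t ≫ g = η} :=
      (Nat.card_ne_zero.1 (by rw [hcard Ω η]; exact hd0)).1
    obtain ⟨t, ht⟩ := this
    refine ⟨t default, ?_⟩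
    rw [← Scheme.Hom.comp_apply, ht, Scheme.Hom.comp_apply]
    exact X.fromSpecResidueField_apply x _⟩
  refine ⟨T, g, hg, hget, hsurj, fun W _ w q hq => ?_⟩
  have hpW : (p : Γ(W, ⊤)) = 0 := natCast_eq_zero_of_hom (w ≫ g) hp
  have hG : ∀ i, i ≤ n → Subsingleton (EtCoh.H W ((EtCoh.pull w).obj (G i)) q) := by
    intro i
    induction i with
    | zero =>
      intro _
      exact CdP50.subsingleton_of_isZero ((EtCoh.pull w).map_isZero h0) q
    | succ i ih =>
      intro hi
      obtain ⟨hm, ⟨c⟩⟩ := hφ i (by omega)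
      have hS : (ShortComplex.mk (φ i) (cokernel.π (φ i)) (cokernel.condition (φ i))).ShortExact :=
        ShortComplex.ShortExact.mk' (ShortComplex.exact_cokernel _) hm inferInstance
      exact CdP50.subsingleton_mid (EtCore45.shortExact_pull' w hS) (ih (by omega))
        (Depth22.subsingleton_H_of_iso ((EtCoh.pull w).mapIso c ≪≫ EtCore.pullConst w (ZMod p)).symm
          (subsingleton_H_const_affine hpW hq))
  exact Depth22.subsingleton_H_of_iso ((EtCoh.pull w).mapIso e ≪≫ ((EtCore.pullComp w g).app F).symm) (hG n le_rfl)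

theorem killsHigh_extension {S : ShortComplex (EtCoh.Ab X)} (hS : S.ShortExact)
    (h₁ : KillsHigh S.X₁) (h₃ : KillsHigh S.X₃) : KillsHigh S.X₂ := by
  obtain ⟨T₁, g₁, _, _, _, v₁⟩ := h₁
  obtain ⟨T₃, g₃, _, _, _, v₃⟩ := h₃
  refine ⟨pullback g₁ g₃, pullback.fst g₁ g₃ ≫ g₁, inferInstance, inferInstance, inferInstance, fun W _ w q hq => ?_⟩
  have h1 := v₁ W (w ≫ pullback.fst g₁ g₃) q hq
  have h3 := v₃ W (w ≫ pullback.snd g₁ g₃) q hq
  replace h3 := subsingleton_congr (b := w ≫ pullback.fst g₁ g₃ ≫ g₁)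
    (by rw [Category.assoc, pullback.condition]) S.X₃ h3
  replace h1 := subsingleton_congr (b := w ≫ pullback.fst g₁ g₃ ≫ g₁) (Category.assoc _ _ _) S.X₁ h1
  exact CdP50.subsingleton_mid (EtCore45.shortExact_pull' _ hS) h1 h3

theorem killsHigh_of_killedBy_pow [ConnectedSpace X] {p : ℕ} [Fact p.Prime] (hp : (p : Γ(X, ⊤)) = 0) :
    ∀ (k : ℕ) (F : EtCoh.Ab X), EtCoh.IsFiniteLocallyConstant F → EtCoh.KilledBy (p ^ k) F → KillsHigh F
  | 0, F, _, hk => by
    refine ⟨X, 𝟙 X, inferInstance, inferInstance, inferInstance, fun W _ w q _ => ?_⟩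
    have h0 : IsZero F := (IsZero.iff_id_eq_zero _).2 (by simpa using Cons51.nsmul_id_eq_zero hk)
    exact CdP50.subsingleton_of_isZero ((EtCoh.pull _).map_isZero h0) q
  | k + 1, F, hF, hk => by
    let f : F ⟶ F := p ^ k • 𝟙 F
    let S := ShortComplex.mk (kernel.ι f) (Abelian.factorThruImage f)
      ((cancel_mono (Abelian.image.ι f)).1 (by rw [Category.assoc, Abelian.image.fac, kernel.condition, zero_comp]))
    have hS : S.ShortExact := by
      refine ShortComplex.ShortExact.mk' (ShortComplex.exact_of_f_is_kernel _ ?_) inferInstance inferInstance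
      exact isKernelOfComp (Abelian.image.ι f) f (kernelIsKernel f) S.zero (Abelian.image.fac f)
    have hker : EtCoh.KilledBy (p ^ k) (kernel f) := Cons51.killedBy_of_nsmul (by
      apply (cancel_mono (kernel.ι f)).1
      have h := kernel.condition f
      simp only [f, Preadditive.comp_nsmul, Category.comp_id] at h
      simp only [Preadditive.nsmul_comp, Category.id_comp, zero_comp]
      exact h)
    have him : EtCoh.KilledBy p (Abelian.image f) := Cons51.killedBy_of_nsmul (by
      apply (cancel_epi (Abelian.factorThruImage f)).1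
      apply (cancel_mono (Abelian.image.ι f)).1
      simp only [Preadditive.comp_nsmul, Preadditive.nsmul_comp, comp_zero, zero_comp]
      rw [show (Abelian.factorThruImage f ≫ 𝟙 _) ≫ Abelian.image.ι f = f from
        (congrArg (· ≫ _) (Category.comp_id _)).trans (Abelian.image.fac f)]
      show p • p ^ k • 𝟙 F = 0
      rw [← mul_nsmul', ← pow_succ', Cons51.nsmul_id_eq_zero hk])
    have hflc := (LocConst45.flc_weakSerre X).1
    exact killsHigh_extension hS (killsHigh_of_killedBy_pow hp k _ (hflc F F f hF hF).1 hker)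
      (killsHigh_of_killedBy_prime hp (hflc _ _ (cokernel.π f) hF (hflc F F f hF hF).2).1 him)

theorem exists_cover_charP [ConnectedSpace X] [IsAffine X] {p : ℕ} [Fact p.Prime] (hp : (p : Γ(X, ⊤)) = 0)
    {k : ℕ} (F : EtCoh.Ab X) (hF : EtCoh.IsFiniteLocallyConstant F) (hk : EtCoh.KilledBy (p ^ k) F)
    (q : ℕ) (hq : 0 < q) (ζ : EtCoh.H X F q) :
    ∃ (X' : Scheme.{u}) (g : X' ⟶ X), IsFinite g ∧ Etale g ∧ Surjective g ∧
      ∀ [PreservesFiniteLimits (EtCoh.pull g)], EtCore.Hpull g F q ζ = 0 := by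
  rcases Nat.lt_or_ge q 2 with h | h
  · obtain rfl : q = 1 := by omega
    exact exists_cover_H1_eq_zero F hF ζ
  · obtain ⟨T, g, hg, hget, hs, hv⟩ := killsHigh_of_killedBy_pow hp k F hF hk
    have : IsAffine T := isAffine_of_isAffineHom g
    refine ⟨T, g, hg, hget, hs, ?_⟩
    intro _
    have h0 := subsingleton_congr (b := g) (Category.id_comp g) F (hv T (𝟙 T) q h)
    exact h0.elim _ _

end Groth.Agent.Tors51
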